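import Cfsg.Agent.TT.Basic

/-! # Four-groups acting on groups of odd order -/

set_option autoImplicit false

namespace Cfsg.Agent.B84

open Cfsg.Agent.GT Cfsg.Agent.TT Subgroup

variable {G : Type*} [Group G] {Y : Subgroup G} {k s t y : G}

theorem odd_sqrt (h : Odd (orderOf k)) : ∃ n : ℕ, k ^ n * k ^ n = k := by
  obtain ⟨m, e⟩ := h
  exact ⟨m + 1, by rw [← pow_add, show m + 1 + (m + 1) = 2 * m + 1 + 1 by ring, pow_succ, ← e,
    pow_orderOf_eq_one, one_mul]⟩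

theorem odd_of_mem (hY : Odd (Nat.card Y)) (h : k ∈ Y) : Odd (orderOf k) :=
  hY.of_dvd_nat (Y.orderOf_dvd_natCard h)

theorem conj_of_inv (h : Odd (orderOf k)) (ss : s * s = 1) (e : k * s * (k * s) = 1) :
    ∃ n : ℕ, k ^ n * s * (k ^ n)⁻¹ = k * s ∧ s * k ^ n * s⁻¹ = (k ^ n)⁻¹ := by
  obtain ⟨n, o⟩ := odd_sqrt h
  have a : s * k * s⁻¹ = k⁻¹ := by
    rw [inv_of_sq ss]; exact eq_inv_of_mul_eq_one_right (by simpa only [mul_assoc] using e)
  have b : s * k ^ n * s⁻¹ = (k ^ n)⁻¹ := by rw [← conj_pow, a, inv_pow]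
  refine ⟨n, ?_, b⟩
  rw [← b, inv_of_sq ss, mul_assoc, mul_assoc s (k ^ n), sq_cancel ss, ← mul_assoc, o]

/-- factorisation of a group of odd order normalised by a four-group -/
theorem four (hY : Odd (Nat.card Y)) (ss : s * s = 1) (tt : t * t = 1) (st : Commute s t)
    (hs : s ∈ N[Y]) (ht : t ∈ N[Y]) (hy : y ∈ Y) : ∃ c ∈ Y, ∃ a ∈ Y, ∃ i ∈ Y, Commute c s ∧
      Commute a t ∧ s * a * s⁻¹ = a⁻¹ ∧ Commute i (s * t) ∧ s * i * s⁻¹ = i⁻¹ ∧ y = c * a * i := by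
  have ns := fun x => (mem_normalizer_iff.1 hs x).1
  have nt := fun x => (mem_normalizer_iff.1 ht x).1
  have uu := mul_self_of_commute ss tt st
  have σσ : y⁻¹ * s * y * (y⁻¹ * s * y) = 1 := by simpa using conj_mul_self y⁻¹ ss
  have h1 : y⁻¹ * (s * y * s⁻¹) ∈ Y := mul_mem (inv_mem hy) (ns y hy)
  have r1 : y⁻¹ * s * y * (s * t) = y⁻¹ * (s * y * s⁻¹) * t := by rw [inv_of_sq ss]; group
  generalize y⁻¹ * (s * y * s⁻¹) = z at h1 r1
  have h2 : z * t * (z * t) ∈ Y := by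
    simpa only [inv_of_sq tt, mul_assoc] using mul_mem h1 (nt z h1)
  obtain ⟨m, e⟩ := odd_of_mem hY h2
  have ττ : (z * t) ^ (2 * m + 1) * (z * t) ^ (2 * m + 1) = 1 := by
    rw [← (Commute.refl _).mul_pow, ← e, pow_orderOf_eq_one]
  have c1 := conj_mul_pow σσ uu (2 * m + 1)
  have c2 := conj_mul_pow uu σσ (2 * m + 1)
  rw [show s * t * (y⁻¹ * s * y) = (y⁻¹ * s * y * (s * t))⁻¹ by
    rw [mul_inv_rev, inv_of_sq uu, inv_of_sq σσ], inv_pow, inv_inv] at c2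
  rw [r1, inv_of_sq ττ] at c1 c2
  have h3 : (z * t * (z * t)) ^ m * z ∈ Y := mul_mem (pow_mem h2 m) h1
  have e3 : (z * t) ^ (2 * m + 1) = (z * t * (z * t)) ^ m * z * t := by
    rw [pow_succ, pow_mul, sq, mul_assoc _ z t]
  rw [e3] at c1 c2 ττ
  generalize (z * t * (z * t)) ^ m * z = k at c1 c2 ττ h3
  replace c1 : Commute (y⁻¹ * s * y) (k * t) := commute_iff_conj.2 (by rwa [inv_of_sq σσ])
  replace c2 : Commute (s * t) (k * t) := commute_iff_conj.2 (by rwa [inv_of_sq uu])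
  have c3 : Commute k (s * t) := by
    simpa [mul_assoc, tt] using (c2.mul_right ((st.mul_left (Commute.refl t)))).symm
  obtain ⟨n, i1, i2⟩ := conj_of_inv (odd_of_mem hY h3) tt ττ
  have i3 := c3.pow_left n
  have i4 := pow_mem h3 n
  generalize k ^ n = i at i1 i2 i3 i4
  have i5 : s * i * s⁻¹ = i⁻¹ := by
    calc s * i * s⁻¹ = s * t * (t * i * t⁻¹) * (s * t)⁻¹ := by
          rw [mul_inv_rev, inv_of_sq tt, mul_assoc s t, mul_assoc t i, sq_cancel tt]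
          simp only [mul_assoc, sq_cancel tt]
      _ = i⁻¹ := by rw [i2]; exact commute_iff_conj.1 i3.symm.inv_right
  have h4 : (y * i)⁻¹ * (s * (y * i) * s⁻¹) ∈ Y := mul_mem (inv_mem (mul_mem hy i4)) (ns _ (mul_mem hy i4))
  have c4 : Commute ((y * i)⁻¹ * (s * (y * i) * s⁻¹)) t := by
    rw [← i1] at c1
    have := (commute_conj_iff i⁻¹).2 c1
    rw [show i⁻¹ * (i * t * i⁻¹) * i⁻¹⁻¹ = t by group] at this
    simpa only [mul_assoc, mul_inv_rev, inv_inv] using this.mul_left st.inv_left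
  obtain ⟨n, a1, a2⟩ := conj_of_inv (odd_of_mem hY h4) ss (by
    simpa [mul_assoc] using conj_mul_self (y * i)⁻¹ ss)
  have a3 := c4.pow_left n
  have a4 := pow_mem h4 n
  generalize ((y * i)⁻¹ * (s * (y * i) * s⁻¹)) ^ n = a at a1 a2 a3 a4
  refine ⟨y * i * a, mul_mem (mul_mem hy i4) a4, a⁻¹, inv_mem a4, i⁻¹, inv_mem i4, commute_iff_conj.2 ?_,
    a3.inv_left, by rw [← conj_inv, a2], i3.inv_left, by rw [← conj_inv, i5], by group⟩
  calc y * i * a * s * (y * i * a)⁻¹ = y * i * (a * s * a⁻¹) * (y * i)⁻¹ := by group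
    _ = s := by rw [a1]; group

/-- elements inverted by `s`, when the inverted parts of the other two centralizers commute -/
theorem four_inv (hY : Odd (Nat.card Y)) (ss : s * s = 1) (tt : t * t = 1) (st : Commute s t)
    (hs : s ∈ N[Y]) (ht : t ∈ N[Y]) (hy : y ∈ Y) (e : s * y * s⁻¹ = y⁻¹)
    (hc : ∀ a ∈ Y, ∀ i ∈ Y, Commute a t → s * a * s⁻¹ = a⁻¹ → Commute i (s * t) → s * i * s⁻¹ = i⁻¹ →
      Commute a i) : ∃ a ∈ Y, ∃ i ∈ Y, Commute a t ∧ s * a * s⁻¹ = a⁻¹ ∧ Commute i (s * t) ∧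
      s * i * s⁻¹ = i⁻¹ ∧ y = a * i := by
  obtain ⟨c, -, a, a1, i, i1, c2, a2, a3, i2, i3, o⟩ := four hY ss tt st hs ht hy
  have k := hc a a1 i i1 a2 a3 i2 i3
  refine ⟨a, a1, i, i1, a2, a3, i2, i3, eq_of_sq_eq_of_odd (odd_of_mem hY hy) (odd_of_mem hY (mul_mem a1 i1))
    (pow_orderOf_eq_one _) (pow_orderOf_eq_one _) (inv_injective ?_)⟩
  calc (y ^ 2)⁻¹ = y⁻¹ * (s * y * s⁻¹) := by rw [e, sq, mul_inv_rev]
    _ = i⁻¹ * a⁻¹ * c⁻¹ * (s * c * s⁻¹) * (s * a * s⁻¹) * (s * i * s⁻¹) := by rw [o]; group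
    _ = ((a * i) ^ 2)⁻¹ := by
      rw [commute_iff_conj.1 c2.symm, a3, i3, sq, mul_inv_rev, mul_inv_rev, inv_mul_cancel_right,
        mul_assoc, k.inv_inv.eq]

end Cfsg.Agent.B84
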