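import Cfsg.Agent.Cl.SL2Tori
import Cfsg.Agent.BS.RankTwo
import Cfsg.Agent.TT.Basic

/-! # Groups with an involution whose centralizer is a quotient of `GL₂(q)`: the setting -/

set_option autoImplicit false

namespace Cfsg.Agent.B84

open Cfsg.Agent.GT Cfsg.Agent.Cl Subgroup

section gl

variable {F : Type*} [Field F]

/-- diagonal matrices -/
noncomputable def dg (a b : Fˣ) : GL (Fin 2) F := gl2mk a 0 0 b (by simp)
/-- upper unipotent matrices -/
noncomputable def xu (c : F) : GL (Fin 2) F := gl2mk 1 c 0 1 (by simp)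
/-- lower unipotent matrices -/
noncomputable def xl (c : F) : GL (Fin 2) F := gl2mk 1 0 c 1 (by simp)
/-- the permutation matrix -/
noncomputable def ww : GL (Fin 2) F := gl2mk 0 1 1 0 (by simp)

theorem dg_mul (a b c d : Fˣ) : dg a b * dg c d = dg (a * c) (b * d) := by
  simp [gl2_eq_iff, gl2_mul, dg]
theorem dg_one : dg (1 : Fˣ) 1 = 1 := by simp [gl2_eq_iff, dg]
theorem dg_inv (a b : Fˣ) : (dg a b)⁻¹ = dg a⁻¹ b⁻¹ :=
  inv_eq_of_mul_eq_one_right (by rw [dg_mul, mul_inv_cancel, mul_inv_cancel, dg_one])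
theorem dg_inj {a b c d : Fˣ} : dg a b = dg c d ↔ a = c ∧ b = d := by
  rw [gl2_eq_iff]; simp [dg, Units.ext_iff]
theorem xu_add (a b : F) : xu a * xu b = xu (a + b) := by simp [gl2_eq_iff, gl2_mul, xu, add_comm]
theorem xl_add (a b : F) : xl a * xl b = xl (a + b) := by simp [gl2_eq_iff, gl2_mul, xl]
theorem xu_zero : xu (0 : F) = 1 := by simp [gl2_eq_iff, xu]
theorem xl_zero : xl (0 : F) = 1 := by simp [gl2_eq_iff, xl]
theorem xu_inv (a : F) : (xu a)⁻¹ = xu (-a) :=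
  inv_eq_of_mul_eq_one_right (by rw [xu_add, add_neg_cancel, xu_zero])
theorem xl_inv (a : F) : (xl a)⁻¹ = xl (-a) :=
  inv_eq_of_mul_eq_one_right (by rw [xl_add, add_neg_cancel, xl_zero])
theorem ww_mul : (ww : GL (Fin 2) F) * ww = 1 := by simp [gl2_eq_iff, gl2_mul, ww]
theorem ww_inv : (ww : GL (Fin 2) F)⁻¹ = ww := inv_eq_of_mul_eq_one_right ww_mul
theorem ww_dg (a b : Fˣ) : ww * dg a b * ww = dg b a := by simp [gl2_eq_iff, gl2_mul, ww, dg]
theorem ww_xu (c : F) : ww * xu c * ww = xl c := by simp [gl2_eq_iff, gl2_mul, ww, xu, xl]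
theorem ww_xl (c : F) : ww * xl c * ww = xu c := by simp [gl2_eq_iff, gl2_mul, ww, xu, xl]
theorem dg_xu (a b : Fˣ) (c : F) : dg a b * xu c * (dg a b)⁻¹ = xu (a * c / b) := by
  rw [dg_inv]; simp [gl2_eq_iff, gl2_mul, dg, xu, div_eq_mul_inv]
theorem dg_xl (a b : Fˣ) (c : F) : dg a b * xl c * (dg a b)⁻¹ = xl (b * c / a) := by
  rw [dg_inv]; simp [gl2_eq_iff, gl2_mul, dg, xl, div_eq_mul_inv]
theorem dg_comm (c : Fˣ) (A : GL (Fin 2) F) : dg c c * A = A * dg c c := by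
  simp [gl2_eq_iff, gl2_mul, dg, mul_comm]
theorem det_dg (a b : Fˣ) : Matrix.GeneralLinearGroup.det (dg a b) = a * b :=
  Units.ext (by simp [dg, Matrix.det_fin_two])
theorem eq_dg {A : GL (Fin 2) F} (h1 : A.1 0 1 = 0) (h2 : A.1 1 0 = 0) : ∃ a b, A = dg a b :=
  ⟨.mk0 _ (gl2B_ne_zero h2).1, .mk0 _ (gl2B_ne_zero h2).2, by simp [gl2_eq_iff, dg, h1, h2]⟩

/-- the diagonal torus -/
noncomputable def dgH : Fˣ × Fˣ →* GL (Fin 2) F :=
  MonoidHom.mk' (fun p => dg p.1 p.2) fun _ _ => (dg_mul _ _ _ _).symm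

theorem dg_pow (a b : Fˣ) (n : ℕ) : dg a b ^ n = dg (a ^ n) (b ^ n) := (map_pow dgH (a, b) n).symm

/-- an involution is `-1` or conjugate to `diag(1, -1)` -/
theorem invol_cases (h2 : (2 : F) ≠ 0) {A : GL (Fin 2) F} (h : A * A = 1) (h1 : A ≠ 1) :
    A = dg (-1) (-1) ∨ ∃ B, A = B * dg 1 (-1) * B⁻¹ := by
  obtain ⟨e1, e2, e3, e4⟩ := gl2_eq_iff.1 h
  simp only [gl2_mul, Units.val_one, Matrix.one_apply_eq, Matrix.one_apply_ne (show (0 : Fin 2) ≠ 1 by decide),
    Matrix.one_apply_ne (show (1 : Fin 2) ≠ 0 by decide)] at e1 e2 e3 e4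
  generalize ha : A.1 0 0 = a at *
  generalize hb : A.1 0 1 = b at *
  generalize hc : A.1 1 0 = c at *
  generalize hd : A.1 1 1 = d at *
  by_cases k : a + d = 0
  · right
    obtain rfl : d = -a := by linear_combination k
    by_cases k1 : a = -1
    · refine ⟨gl2mk b 2 2 (-c) fun e => h2 ?_, eq_mul_inv_of_mul_eq ?_⟩
      · have : b * c = 0 := by rw [k1] at e1; linear_combination e1
        exact mul_self_eq_zero.1 (by linear_combination -e - this)
      · simp only [gl2_eq_iff, gl2_mul, ha, hb, hc, hd, dg, gl2mk00, gl2mk01, gl2mk10, gl2mk11, k1] at e1 ⊢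
        simp only [Units.val_neg, Units.val_one]
        exact ⟨by ring, by linear_combination -e1, by linear_combination e1, by ring⟩
    · refine ⟨gl2mk (a + 1) (-b) c (a + 1) fun e => k1 ?_, eq_mul_inv_of_mul_eq ?_⟩
      · exact eq_neg_of_add_eq_zero_left ((mul_eq_zero.1 (show 2 * (a + 1) = 0 by
          linear_combination e - e1)).resolve_left h2)
      · simp only [gl2_eq_iff, gl2_mul, ha, hb, hc, hd, dg, gl2mk00, gl2mk01, gl2mk10, gl2mk11]
        simp only [Units.val_neg, Units.val_one]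
        exact ⟨by linear_combination e1, by ring, by ring, by linear_combination -e1⟩
  · left
    have b0 : b = 0 := (mul_eq_zero.1 (show b * (a + d) = 0 by linear_combination e2)).resolve_right k
    have c0 : c = 0 := (mul_eq_zero.1 (show c * (a + d) = 0 by linear_combination e3)).resolve_right k
    have ad : a = d := sub_eq_zero.1 ((mul_eq_zero.1 (show (a - d) * (a + d) = 0 by
      linear_combination e1 - e4)).resolve_right k)
    have : a = -1 := (mul_self_eq_one_iff.1 (show a * a = 1 by rw [b0] at e1; linear_combination e1)).resolve_left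
      fun e => h1 (by simp [gl2_eq_iff, ha, hb, hc, hd, b0, c0, ← ad, e])
    simp [gl2_eq_iff, dg, ha, hb, hc, hd, b0, c0, ← ad, this]

end gl

variable {F G : Type*} [Field F] [Fintype F] [Group G]

/-- The setting: `φ` maps `GL₂(F)` onto the centralizer of `t₁`, and `g` permutes the involutions
`t₁, t₂, t₃` of the diagonal four-group cyclically. -/
structure Hy (φ : GL (Fin 2) F →* G) (g : G) : Prop where
  odd : Odd (Fintype.card F)
  range : φ.range = C1[φ (dg (-1) (-1))]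
  ker : ∀ A, φ A = 1 → ∃ c : Fˣ, Odd (orderOf c) ∧ A = dg c c
  g1 : g * φ (dg (-1) (-1)) * g⁻¹ = φ (dg 1 (-1))
  g2 : g * φ (dg 1 (-1)) * g⁻¹ = φ (dg (-1) 1)

/-- no nontrivial element of the centre of the centralizer commutes with `g` -/
def D1 (φ : GL (Fin 2) F →* G) (g : G) : Prop := ∀ a : Fˣ, Commute g (φ (dg a a)) → φ (dg a a) = 1

namespace Hy

variable {φ : GL (Fin 2) F →* G} {g x : G} (h : Hy φ g) {A B : GL (Fin 2) F} {a b c d : Fˣ}
include h

theorem two : (2 : F) ≠ 0 := two_ne_zero_of_odd_card h.odd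

theorem neg_ne : (-1 : Fˣ) ≠ 1 := fun e => h.two (by
  have := congrArg Units.val e
  simp only [Units.val_neg, Units.val_one] at this
  linear_combination -this)

theorem ker_det (e : φ A = 1) (hd : Matrix.GeneralLinearGroup.det A = 1) : A = 1 := by
  obtain ⟨c, ⟨k, hk⟩, rfl⟩ := h.ker A e
  have := pow_orderOf_eq_one c
  rw [det_dg] at hd
  rw [hk, pow_succ, pow_mul, sq, hd, one_pow, one_mul] at this
  rw [this, dg_one]

theorem commute_iff : Commute (φ A) (φ B) ↔ Commute A B :=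
  ⟨fun e => mul_inv_eq_one.1 (h.ker_det (by rw [map_mul, map_inv, map_mul, map_mul, e.eq, mul_inv_cancel])
    (by rw [map_mul, map_inv, map_mul, map_mul, mul_comm (Matrix.GeneralLinearGroup.det A), mul_inv_cancel])),
    fun e => e.map φ⟩

theorem conj_iff {C : GL (Fin 2) F} (hd : Matrix.GeneralLinearGroup.det B = Matrix.GeneralLinearGroup.det C) :
    φ A * φ B * (φ A)⁻¹ = φ C ↔ A * B * A⁻¹ = C :=
  ⟨fun e => mul_inv_eq_one.1 (h.ker_det (by simp only [map_mul, map_inv, e, mul_inv_cancel])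
    (by simp only [map_mul, map_inv, hd, mul_inv_cancel_comm, mul_inv_cancel])),
    fun e => by rw [← e, map_mul, map_mul, map_inv]⟩

theorem dg_eq_one : φ (dg a b) = 1 → a = b ∧ Odd (orderOf a) := fun e => by
  obtain ⟨c, o, e⟩ := h.ker _ e
  obtain ⟨rfl, rfl⟩ := dg_inj.1 e
  exact ⟨rfl, o⟩

theorem t1_ne : φ (dg (-1) (-1)) ≠ 1 := fun e => by
  have := (h.dg_eq_one e).2
  rw [orderOf_eq_prime (p := 2) (by simp) h.neg_ne] at this
  exact absurd this (by decide)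

omit h in
theorem t_sq (e1 : a * a = 1) (e2 : b * b = 1) : φ (dg a b) * φ (dg a b) = 1 := by
  rw [← map_mul, dg_mul, e1, e2, dg_one, map_one]

theorem g3 : g * φ (dg (-1) 1) * g⁻¹ = φ (dg (-1) (-1)) := by
  have : φ (dg (-1) 1) = φ (dg (-1) (-1)) * φ (dg 1 (-1)) := by rw [← map_mul, dg_mul]; simp
  rw [this, ← conj_mul, h.g1, h.g2, ← map_mul, dg_mul]; simp

theorem cent : Commute x (φ (dg (-1) (-1))) ↔ ∃ A, φ A = x := by
  rw [← MonoidHom.mem_range, h.range, mem_cent1]; rfl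

theorem cent_t2 : Commute (φ A) (φ (dg 1 (-1))) ↔ ∃ a b, A = dg a b := by
  rw [h.commute_iff]
  refine ⟨fun e => ?_, by rintro ⟨a, b, rfl⟩; simp [Commute, SemiconjBy, dg_mul]⟩
  obtain ⟨-, e1, e2, -⟩ := gl2_eq_iff.1 e.eq
  simp only [gl2_mul, dg, gl2mk00, gl2mk01, gl2mk10, gl2mk11, Units.val_neg, Units.val_one] at e1 e2
  exact eq_dg ((mul_eq_zero.1 (show 2 * A.1 0 1 = 0 by linear_combination -e1)).resolve_left h.two)
    ((mul_eq_zero.1 (show 2 * A.1 1 0 = 0 by linear_combination e2)).resolve_left h.two)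

/-- the centralizer of the four-group is the torus -/
theorem cent_U : Commute x (φ (dg (-1) (-1))) ∧ Commute x (φ (dg 1 (-1))) ↔ ∃ a b, x = φ (dg a b) := by
  constructor
  · rintro ⟨e1, e2⟩
    obtain ⟨A, rfl⟩ := h.cent.1 e1
    obtain ⟨a, b, rfl⟩ := h.cent_t2.1 e2
    exact ⟨a, b, rfl⟩
  · rintro ⟨a, b, rfl⟩
    exact ⟨h.cent.2 ⟨_, rfl⟩, h.cent_t2.2 ⟨a, b, rfl⟩⟩

omit h in
theorem T_comm : Commute (φ (dg a b)) (φ (dg c d)) := Commute.map (by
  simp [Commute, SemiconjBy, dg_mul, mul_comm]) φ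

theorem g_T (a b : Fˣ) : ∃ c d, g * φ (dg a b) * g⁻¹ = φ (dg c d) :=
  h.cent_U.1 ⟨h.g3 ▸ (TT.commute_conj_iff g).2 T_comm, h.g1 ▸ (TT.commute_conj_iff g).2 T_comm⟩

theorem g_T' (a b : Fˣ) : ∃ c d, g⁻¹ * φ (dg a b) * g = φ (dg c d) :=
  h.cent_U.1 ⟨(TT.commute_conj_iff g).1 (by rw [h.g1]; simpa [mul_assoc] using T_comm),
    (TT.commute_conj_iff g).1 (by rw [h.g2]; simpa [mul_assoc] using T_comm)⟩

theorem g_cube : ∃ a b, g ^ 3 = φ (dg a b) := by
  have e : ∀ y, g ^ 3 * y * (g ^ 3)⁻¹ = g * (g * (g * y * g⁻¹) * g⁻¹) * g⁻¹ := fun y => by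
    rw [pow_three]; group
  exact h.cent_U.1 ⟨mul_inv_eq_iff_eq_mul.1 (by rw [e, h.g1, h.g2, h.g3]),
    mul_inv_eq_iff_eq_mul.1 (by rw [e, h.g2, h.g3, h.g1])⟩

/-- `w g` is a reflection -/
theorem wg_sq : ∃ a b, φ ww * g * (φ ww * g) = φ (dg a b) := by
  have e : ∀ y, φ ww * g * (φ ww * g) * y * (φ ww * g * (φ ww * g))⁻¹ =
      φ ww * (g * (φ ww * (g * y * g⁻¹) * φ ww) * g⁻¹) * φ ww := fun y => by
    simp only [mul_inv_rev, ← map_inv, ww_inv, mul_assoc]
  have w : ∀ a b, φ ww * φ (dg a b) * φ ww = φ (dg b a) := fun a b => by rw [← map_mul, ← map_mul, ww_dg]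
  exact h.cent_U.1 ⟨mul_inv_eq_iff_eq_mul.1 (by rw [e, h.g1, w, h.g3, w]),
    mul_inv_eq_iff_eq_mul.1 (by rw [e, h.g2, w, h.g2, w])⟩

/-- every involution of the centralizer is the image of an involution -/
theorem invol (e : φ A * φ A = 1) (e1 : φ A ≠ 1) :
    φ A = φ (dg (-1) (-1)) ∨ ∃ B, φ A = φ B * φ (dg 1 (-1)) * (φ B)⁻¹ := by
  obtain ⟨c, ⟨k, hk⟩, o⟩ := h.ker (A * A) (by rw [map_mul, e])
  have m : φ (A ^ (2 * k + 1)) = φ A := by rw [map_pow, pow_succ, pow_mul, sq, e, one_pow, one_mul]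
  rw [← m] at e1 ⊢
  refine (invol_cases h.two (A := A ^ (2 * k + 1)) ?_ fun n => e1 (by rw [n, map_one])).imp (congrArg φ)
    fun ⟨B, n⟩ => ⟨B, by rw [n, map_mul, map_mul, map_inv]⟩
  rw [← (Commute.refl A).mul_pow, o, dg_pow, ← hk, pow_orderOf_eq_one, dg_one]

theorem invol_conj (e : x * x = 1) (e1 : x ≠ 1) (c : Commute x (φ (dg (-1) (-1)))) :
    IsConj (φ (dg (-1) (-1))) x := by
  obtain ⟨A, rfl⟩ := h.cent.1 c
  rcases h.invol e e1 with n | ⟨B, n⟩
  · rw [n]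
  · exact isConj_iff.2 ⟨φ B * g, by rw [n, ← h.g1]; group⟩

/-- rotation -/
theorem rot : Hy ((MulAut.conj g).toMonoidHom.comp φ) g where
  odd := h.odd
  range := by
    ext x
    rw [mem_cent1]
    exact ⟨by rintro ⟨A, rfl⟩; exact (TT.commute_conj_iff g).2 (h.cent.2 ⟨A, rfl⟩), fun e => by
      obtain ⟨A, n⟩ := h.cent.1 ((TT.commute_conj_iff g).1 (show Commute (g * (g⁻¹ * x * g) * g⁻¹) _ by
        rw [show g * (g⁻¹ * x * g) * g⁻¹ = x by group]; exact e))
      exact ⟨A, by simp [n, mul_assoc]⟩⟩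
  ker A e := h.ker A (conj_eq_one_iff.1 e)
  g1 := congrArg (fun y => g * y * g⁻¹) h.g1
  g2 := congrArg (fun y => g * y * g⁻¹) h.g2

/-- reflection -/
theorem refl : Hy (φ.comp (MulAut.conj ww).toMonoidHom) g⁻¹ := by
  have w : ∀ a b : Fˣ, (φ.comp (MulAut.conj ww).toMonoidHom) (dg a b) = φ (dg b a) := fun a b => by
    simp [ww_inv, ← map_mul, ww_dg]
  refine ⟨h.odd, ?_, fun A e => ?_, ?_, ?_⟩
  · rw [w, ← h.range, MonoidHom.range_comp, MonoidHom.range_eq_top.2 (MulEquiv.surjective _),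
      ← MonoidHom.range_eq_map]
  · obtain ⟨c, o, n⟩ := h.ker _ e
    refine ⟨c, o, ?_⟩
    rw [← ww_dg, ← n]
    simp [ww_inv, ← mul_assoc, ww_mul, mul_assoc _ ww ww]
  · rw [w, w, ← h.g3]; group
  · rw [w, w, ← h.g2]; group

variable [Finite G]

theorem exists_syl_cent : ∃ S, IsPiHallOf {2} S ⊤ ∧ S ≤ C1[φ (dg (-1) (-1))] := by
  obtain ⟨S, hS, le⟩ := exists_syl_ge (p := 2) (M := ⊤) (Q := zpowers (φ (dg (-1) (-1)))) Nat.prime_two
    (PG.isPGroup_zpowers_of_pow_eq_one (k := 1) (by rw [pow_one, sq, t_sq] <;> simp)) le_top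
  have p := syl_isPGroup Nat.prime_two hS
  have := inf_cent_ne_bot_of_isPGroup Nat.prime_two p p le_normalizer fun e =>
    h.t1_ne (e.le (le (mem_zpowers _)))
  obtain ⟨z, hz, o⟩ := exists_mem_orderOf_eq Nat.prime_two
    (prime_dvd_card_of_isPGroup Nat.prime_two (p.to_le inf_le_left) this)
  obtain ⟨k, e⟩ := isConj_iff.1 (h.invol_conj (TT.mul_self_of_orderOf o) (TT.ne_one_of_orderOf o)
    (hz.2 _ (le (mem_zpowers _))).symm)
  refine ⟨cj[k⁻¹] S, syl_conj_mem hS (le_normalizer trivial), conj_le_iff_forall.2 fun y hy => mem_cent1.2 ?_⟩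
  refine (TT.commute_conj_iff k).1 ?_
  rw [e]
  simpa [mul_assoc] using (show Commute y z from hz.2 y hy)

/-- the centralizer has odd index -/
theorem odd_index : Odd (C1[φ (dg (-1) (-1))]).index := by
  obtain ⟨S, hS, le⟩ := h.exists_syl_cent
  have := syl_not_dvd Nat.prime_two hS
  rw [relIndex_top_right] at this
  exact Nat.not_even_iff_odd.1 fun e => this ((even_iff_two_dvd.1 e).trans (index_dvd_of_le le))

/-- one class of involutions -/
theorem conj_t (e : x * x = 1) (e1 : x ≠ 1) : IsConj (φ (dg (-1) (-1))) x := by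
  obtain ⟨S, hS, le⟩ := h.exists_syl_cent
  obtain ⟨k, -, n⟩ := syl_exists_conj_le Nat.prime_two hS (Q := zpowers x)
    (PG.isPGroup_zpowers_of_pow_eq_one (k := 1) (by rw [pow_one, sq, e])) le_top
  exact (h.invol_conj (x := k * x * k⁻¹) (by rw [conj_mul, e]; simp) (by simpa using e1)
    (mem_cent1.1 (le (conj_le_iff_forall.1 n x (mem_zpowers x))))).trans (isConj_iff.2 ⟨k⁻¹, by group⟩)

omit [Finite G] in
theorem card_H : Nat.card C1[φ (dg (-1) (-1))] * Nat.card φ.ker = Nat.card (GL (Fin 2) F) := by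
  rw [← h.range, ← index_ker, φ.ker.index_mul_card]

end Hy

end Cfsg.Agent.B84
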