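import Cfsg.Agent.B84.Hy
import Cfsg.Agent.B84.Four
import Cfsg.Agent.GT.Transfer

/-! # Root groups and the odd-order subgroups normalised by the torus -/

set_option autoImplicit false

namespace Cfsg.Agent.B84

open Cfsg.Agent.GT Cfsg.Agent.Cl Cfsg.Agent.TT Subgroup

section gl

variable {F : Type*} [Field F]

/-- the upper root homomorphism -/
noncomputable def xuH : Multiplicative F →* GL (Fin 2) F :=
  MonoidHom.mk' (fun c => xu c.toAdd) fun _ _ => (xu_add _ _).symm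

theorem xu_pow (c : F) (n : ℕ) : xu c ^ n = xu (n * c) := by
  rw [← nsmul_eq_mul]; exact (map_pow xuH (Multiplicative.ofAdd c) n).symm

theorem det_xu (c : F) : Matrix.GeneralLinearGroup.det (xu c) = 1 := Units.ext (by simp [xu, Matrix.det_fin_two])

theorem det_xl (c : F) : Matrix.GeneralLinearGroup.det (xl c) = 1 := Units.ext (by simp [xl, Matrix.det_fin_two])

theorem xu_eq_one {c : F} (e : xu c = 1) : c = 0 := by simpa [xu] using (gl2_eq_iff.1 e).2.1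

theorem inv_mul_ent (A B : GL (Fin 2) F) :
    (B.1 0 0 * B.1 1 1 - B.1 0 1 * B.1 1 0) * (B⁻¹ * A).1 0 0 = B.1 1 1 * A.1 0 0 - B.1 0 1 * A.1 1 0 ∧
    (B.1 0 0 * B.1 1 1 - B.1 0 1 * B.1 1 0) * (B⁻¹ * A).1 0 1 = B.1 1 1 * A.1 0 1 - B.1 0 1 * A.1 1 1 ∧
    (B.1 0 0 * B.1 1 1 - B.1 0 1 * B.1 1 0) * (B⁻¹ * A).1 1 0 = B.1 0 0 * A.1 1 0 - B.1 1 0 * A.1 0 0 ∧
    (B.1 0 0 * B.1 1 1 - B.1 0 1 * B.1 1 0) * (B⁻¹ * A).1 1 1 = B.1 0 0 * A.1 1 1 - B.1 1 0 * A.1 0 1 := by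
  obtain ⟨V, rfl⟩ : ∃ V, A = B * V := ⟨B⁻¹ * A, by group⟩
  simp only [inv_mul_cancel_left, gl2_mul]
  exact ⟨by ring, by ring, by ring, by ring⟩

theorem dg_conj_ent (a : Fˣ) (A : GL (Fin 2) F) : (dg a 1 * A * (dg a 1)⁻¹).1 0 0 = A.1 0 0 ∧
    (dg a 1 * A * (dg a 1)⁻¹).1 0 1 = a * A.1 0 1 ∧ (dg a 1 * A * (dg a 1)⁻¹).1 1 0 = A.1 1 0 / a ∧
    (dg a 1 * A * (dg a 1)⁻¹).1 1 1 = A.1 1 1 := by
  rw [dg_inv]
  simp [gl2_mul, dg, div_eq_mul_inv, mul_right_comm]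

/-- the automorphism `A ↦ (det A)⁻¹ A` -/
noncomputable def duH : GL (Fin 2) F →* GL (Fin 2) F :=
  MonoidHom.mk' (fun A => dg (Matrix.GeneralLinearGroup.det A)⁻¹ (Matrix.GeneralLinearGroup.det A)⁻¹ * A)
    fun A B => by
      rw [map_mul, mul_inv, ← dg_mul, mul_assoc, mul_assoc, ← mul_assoc A, ← dg_comm _ A, mul_assoc]

theorem duH_apply (A : GL (Fin 2) F) :
    duH A = dg (Matrix.GeneralLinearGroup.det A)⁻¹ (Matrix.GeneralLinearGroup.det A)⁻¹ * A := rfl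

theorem duH_dg (a b : Fˣ) : duH (dg a b) = dg b⁻¹ a⁻¹ := by
  rw [duH_apply, det_dg, dg_mul, dg_inj]; simp [mul_comm]

theorem duH_det {A : GL (Fin 2) F} (e : Matrix.GeneralLinearGroup.det A = 1) : duH A = A := by
  rw [duH_apply, e, inv_one, dg_one, one_mul]

theorem duH_duH (A : GL (Fin 2) F) : duH (duH A) = A := by
  conv_lhs => rw [duH_apply A, map_mul, duH_dg, duH_apply, ← mul_assoc, dg_mul]
  simp [dg_one]

end gl

variable {F G : Type*} [Field F] [Group G]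

/-- reflection -/
noncomputable abbrev rf (φ : GL (Fin 2) F →* G) : GL (Fin 2) F →* G := φ.comp (MulAut.conj ww).toMonoidHom
/-- rotation -/
abbrev rt (g : G) (φ : GL (Fin 2) F →* G) : GL (Fin 2) F →* G := (MulAut.conj g).toMonoidHom.comp φ
/-- the torus -/
noncomputable def Tor (φ : GL (Fin 2) F →* G) : Subgroup G := (φ.comp dgH).range
/-- the upper root group -/
noncomputable def RU (φ : GL (Fin 2) F →* G) : Subgroup G := (φ.comp xuH).range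
/-- the lower root group -/
noncomputable def RL (φ : GL (Fin 2) F →* G) : Subgroup G := RU (rf φ)

variable {φ : GL (Fin 2) F →* G} {g x y k : G} {A B : GL (Fin 2) F} {a b : Fˣ} {c : F} {W : Subgroup G}

theorem rf_apply (A : GL (Fin 2) F) : rf φ A = φ (ww * A * ww) := by simp [ww_inv]
theorem mem_Tor : x ∈ Tor φ ↔ ∃ a b, x = φ (dg a b) :=
  ⟨fun ⟨p, e⟩ => ⟨p.1, p.2, e.symm⟩, fun ⟨a, b, e⟩ => ⟨(a, b), e.symm⟩⟩
theorem dg_mem (a b : Fˣ) : φ (dg a b) ∈ Tor φ := ⟨(a, b), rfl⟩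
theorem mem_RU : x ∈ RU φ ↔ ∃ c, φ (xu c) = x := Iff.rfl
theorem mem_RL : x ∈ RL φ ↔ ∃ c, φ (xl c) = x := by simp only [RL, mem_RU, rf_apply, ww_xu]
theorem xu_mem (c : F) : φ (xu c) ∈ RU φ := ⟨_, rfl⟩
theorem xl_mem (c : F) : φ (xl c) ∈ RL φ := mem_RL.2 ⟨_, rfl⟩
theorem RL_rf : RL (rf φ) = RU φ := by ext; simp only [mem_RL, mem_RU, rf_apply, ww_xl]
theorem Tor_rf : Tor (rf φ) = Tor φ := by
  ext; simp only [mem_Tor, rf_apply, ww_dg]; exact exists_comm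
theorem RU_rt : RU (rt g φ) = cj[g] (RU φ) := by rw [RU, RU, MonoidHom.map_range, MonoidHom.comp_assoc]
theorem RL_rt : RL (rt g φ) = cj[g] (RL φ) := RU_rt (φ := rf φ)
theorem Tor_rt' : Tor (rt g φ) = cj[g] (Tor φ) := by
  rw [Tor, Tor, MonoidHom.map_range, MonoidHom.comp_assoc]
theorem RU_du : RU (φ.comp duH) = RU φ := by
  ext; simp only [mem_RU, MonoidHom.comp_apply, duH_det (det_xu _)]
theorem RL_du : RL (φ.comp duH) = RL φ := by
  ext; simp only [mem_RL, MonoidHom.comp_apply, duH_det (det_xl _)]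
theorem Tor_du : Tor (φ.comp duH) = Tor φ := by
  ext; simp only [mem_Tor, MonoidHom.comp_apply, duH_dg]
  exact ⟨fun ⟨a, b, e⟩ => ⟨_, _, e⟩, fun ⟨a, b, e⟩ => ⟨b⁻¹, a⁻¹, by rw [e, inv_inv, inv_inv]⟩⟩
theorem w_RU : cj[φ ww] (RU φ) = RL φ := by
  ext; simp only [mem_conj_iff_exists, mem_RU, mem_RL, exists_exists_eq_and, ← map_inv, ← map_mul, ww_inv, ww_xu]
theorem w_RL : cj[φ ww] (RL φ) = RU φ := by
  rw [← w_RU, ← mul_conj, ← map_mul, ww_mul, map_one, one_conj]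
theorem RU_comm : RU φ ≤ C[RU φ] := by
  rintro _ ⟨c, rfl⟩ _ ⟨d, rfl⟩; rw [← map_mul, ← map_mul, mul_comm]
theorem Tor_RU : Tor φ ≤ N[RU φ] := le_norm_iff.2 (by
  intro _ e _ e'
  obtain ⟨a, b, rfl⟩ := mem_Tor.1 e
  obtain ⟨c, rfl⟩ := mem_RU.1 e'
  rw [← map_inv, ← map_mul, ← map_mul, dg_xu]; exact xu_mem _)
theorem Tor_RL : Tor φ ≤ N[RL φ] := Tor_rf (φ := φ) ▸ Tor_RU
theorem w_Tor : cj[φ ww] (Tor φ) = Tor φ := by
  rw [← Tor_rt', ← Tor_rf (φ := φ)]; congr 1; ext; simp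

theorem full (hT : Tor φ ≤ N[W]) (hc : c ≠ 0) (e : φ (xu c) ∈ W) : RU φ ≤ W := by
  intro _ e'
  obtain ⟨d, rfl⟩ := mem_RU.1 e'
  by_cases k : d = 0
  · rw [k, xu_zero, map_one]; exact one_mem _
  have := conj_mem_of_le_norm hT (dg_mem (.mk0 _ (div_ne_zero k hc)) 1) e
  rw [← map_inv, ← map_mul, ← map_mul, dg_xu] at this
  simpa [hc] using this

variable [Fintype F]

namespace Hy

variable (h : Hy φ g)
include h

theorem dual : Hy (φ.comp duH) g⁻¹ := by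
  refine ⟨h.odd, ?_, fun A e => ?_, ?_, ?_⟩
  · rw [MonoidHom.range_comp, MonoidHom.range_eq_top.2 fun A => ⟨_, duH_duH A⟩, ← MonoidHom.range_eq_map, h.range]
    simp [duH_dg]
  · obtain ⟨c, o, n⟩ := h.ker _ e
    exact ⟨c⁻¹, by rwa [orderOf_inv], by rw [← duH_duH A, n, duH_dg]⟩
  · simp only [MonoidHom.comp_apply, duH_dg, inv_one, inv_neg_one]
    rw [← h.g3]; group
  · simp only [MonoidHom.comp_apply, duH_dg, inv_one, inv_neg_one]
    rw [← h.g2]; group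

theorem g_Tor : cj[g] (Tor φ) = Tor φ := le_antisymm (conj_le_iff_forall.2 fun x e => by
  obtain ⟨a, b, rfl⟩ := mem_Tor.1 e; exact mem_Tor.2 (h.g_T a b)) fun x e => mem_conj.2 (by
  obtain ⟨a, b, rfl⟩ := mem_Tor.1 e; exact mem_Tor.2 (h.g_T' a b))

theorem Tor_rt : Tor (rt g φ) = Tor φ := Tor_rt'.trans h.g_Tor

theorem T_cj (hT : Tor φ ≤ N[W]) : Tor φ ≤ N[cj[g] W] := by
  rw [← conj_normalizer, ← h.g_Tor]; exact conj_mono g hT

theorem T_cj' (hT : Tor φ ≤ N[W]) : Tor φ ≤ N[cj[g⁻¹] W] := by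
  rw [← conj_normalizer, le_conj_iff, inv_inv, h.g_Tor]; exact hT

theorem gg (hT : Tor φ ≤ N[W]) : cj[g] (cj[g] W) = cj[g⁻¹] W := by
  rw [eq_comm, conj_eq_iff, inv_inv, ← mul_conj, ← mul_conj, ← pow_three', eq_comm]
  exact conj_eq_self (hT (mem_Tor.2 h.g_cube))

theorem wg (hT : Tor φ ≤ N[W]) : cj[φ ww] (cj[g] W) = cj[g⁻¹] (cj[φ ww] W) := by
  rw [eq_comm, conj_eq_iff, inv_inv, ← conj_inj (g := φ ww), ← mul_conj, ← mul_conj, ← map_mul, ww_mul, map_one,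
    one_conj, ← mul_conj, ← mul_conj, mul_assoc _ _ g, eq_comm]
  exact conj_eq_self (hT (mem_Tor.2 h.wg_sq))

theorem xu_inj (e : φ (xu c) = 1) : c = 0 := xu_eq_one (h.ker_det e (det_xu c))

theorem card_RU : Nat.card (RU φ) = Fintype.card F := by
  rw [← Nat.card_eq_fintype_card]
  exact (Nat.card_congr (MonoidHom.ofInjective ((injective_iff_map_eq_one _).2 fun c e =>
    h.xu_inj (c := c.toAdd) e)).toEquiv).symm

theorem z00 (hW : Odd (Nat.card W)) (hT : Tor φ ≤ N[W]) (e : φ A ∈ W) : A.1 0 0 ≠ 0 := fun z => by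
  have d := gl2_det A
  have c0 : A.1 1 0 ≠ 0 := fun e => d (by rw [z, e]; ring)
  have m := mul_mem (inv_mem e) (conj_mem_of_le_norm hT (dg_mem (-1) 1) e)
  rw [← map_inv, ← map_inv, ← map_mul, ← map_mul, ← map_mul, show A⁻¹ * (dg (-1) 1 * A * (dg (-1) 1)⁻¹) =
    dg (-1) (-1) * xu (-2 * A.1 1 1 / A.1 1 0) from inv_mul_eq_iff_eq_mul.2 (by
      obtain ⟨e1, e2, e3, e4⟩ := dg_conj_ent (-1) A
      rw [gl2_eq_iff, e1, e2, e3, e4]
      simp [gl2_mul, dg, xu, z, div_neg]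
      field_simp; ring)] at m
  obtain ⟨n, o⟩ := odd_of_mem hW m
  have := pow_orderOf_eq_one (φ (dg (-1) (-1) * xu (-2 * A.1 1 1 / A.1 1 0)))
  rw [o, ← map_pow, (show Commute _ _ from dg_comm _ _).mul_pow, dg_pow, xu_pow, Odd.neg_one_pow ⟨n, rfl⟩] at this
  have := (gl2_eq_iff.1 (h.ker_det this (by rw [map_mul, det_dg, det_xu]; simp))).1
  simp [gl2_mul, dg, xu] at this
  exact h.two (by linear_combination -this)

theorem not_both (hW : Odd (Nat.card W)) (hT : Tor φ ≤ N[W]) (e1 : RU φ ≤ W) (e2 : RL φ ≤ W) : False := by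
  have := mul_mem (e1 (xu_mem 1)) (e2 (xl_mem (-1)))
  rw [← map_mul] at this
  exact h.z00 hW hT this (by simp [gl2_mul, xu, xl])

theorem tri (hW : Odd (Nat.card W)) (hT : Tor φ ≤ N[W]) (e : φ A ∈ W) : A.1 0 1 = 0 ∨ A.1 1 0 = 0 := by
  by_contra! n
  have a0 := h.z00 hW hT e
  have d0 : A.1 1 1 ≠ 0 := fun z => h.z00 hW hT (A := A⁻¹ * 1) (by simpa using e)
    ((mul_eq_zero.1 ((inv_mul_ent 1 A).1.trans (by simp [z]))).resolve_left (gl2_det A))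
  have m := mul_mem (inv_mem (conj_mem_of_le_norm hT (dg_mem
    (.mk0 _ (div_ne_zero (mul_ne_zero a0 d0) (mul_ne_zero n.1 n.2))) 1) e)) e
  rw [← map_inv φ (dg _ _), ← map_mul, ← map_mul, ← map_inv, ← map_mul] at m
  refine h.z00 hW hT m ((mul_eq_zero.1 ((inv_mul_ent _ _).1.trans ?_)).resolve_left (gl2_det _))
  rw [(dg_conj_ent _ _).2.1, (dg_conj_ent _ _).2.2.2, Units.val_mk0]
  field_simp [n.1, n.2]; ring

theorem up (o : Odd (orderOf (φ A))) (z : A.1 1 0 = 0)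
    (e : φ (dg a (-a)) * φ A * (φ (dg a (-a)))⁻¹ = (φ A)⁻¹) : φ A ∈ RU φ := by
  have e1 : φ (dg a (-a) * A * (dg a (-a))⁻¹ * A) = 1 := by simp only [map_mul, map_inv, e, inv_mul_cancel]
  obtain ⟨c, -, n⟩ := h.ker _ e1
  rw [n] at e1
  obtain ⟨n1, -, -, n2⟩ := gl2_eq_iff.1 n
  rw [dg_inv] at n1 n2
  simp [gl2_mul, dg, z, mul_right_comm] at n1 n2
  obtain ⟨m, r⟩ := odd_sqrt o
  rw [← r, ← (Commute.refl _).mul_pow, ← map_mul, show A * A = dg c c * xu ((A * A).1 0 1 / c) by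
    simp [gl2_eq_iff, gl2_mul, dg, xu, z, n1, n2, mul_div_cancel₀], map_mul, e1, one_mul]
  exact pow_mem (xu_mem _) m

/-- elements of the centralizer of `t₁` inverted by `t₂` -/
theorem inv_cases (hW : Odd (Nat.card W)) (hT : Tor φ ≤ N[W]) (hy : y ∈ W) (c1 : Commute y (φ (dg (-1) (-1))))
    (e : φ (dg a (-a)) * y * (φ (dg a (-a)))⁻¹ = y⁻¹) :
    y = 1 ∨ (y ∈ RU φ ∧ RU φ ≤ W) ∨ (y ∈ RL φ ∧ RL φ ≤ W) := by
  obtain ⟨A, rfl⟩ := h.cent.1 c1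
  have k : ∀ {ψ : GL (Fin 2) F →* G}, Tor ψ ≤ N[W] → φ A ∈ RU ψ → φ A = 1 ∨ (φ A ∈ RU ψ ∧ RU ψ ≤ W) :=
    fun hT m => by
      obtain ⟨c, n⟩ := mem_RU.1 m
      by_cases c0 : c = 0
      · exact Or.inl (by rw [← n, c0, xu_zero, map_one])
      · exact Or.inr ⟨m, full hT c0 (n ▸ hy)⟩
  rcases h.tri hW hT hy with z | z
  · have r : rf φ (ww * A * ww) = φ A := by rw [rf_apply]; simp [← mul_assoc, ww_mul, mul_assoc _ ww ww]
    exact (k (ψ := rf φ) (Tor_rf.le.trans hT) (r ▸ h.refl.up (a := -a) (r ▸ odd_of_mem hW hy) (by simp [gl2_mul, ww, z]) (by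
      rw [r, rf_apply, ww_dg, neg_neg, e]))).imp_right Or.inr
  · exact (k hT (h.up (odd_of_mem hW hy) z e)).imp_right Or.inl

theorem inv2 (hW : Odd (Nat.card W)) (hT : Tor φ ≤ N[W]) (hy : y ∈ W) (c1 : Commute y (φ (dg 1 (-1))))
    (e : φ (dg (-1) (-1)) * y * (φ (dg (-1) (-1)))⁻¹ = y⁻¹) :
    y = 1 ∨ (y ∈ cj[g] (RU φ) ∧ cj[g] (RU φ) ≤ W) ∨ (y ∈ cj[g] (RL φ) ∧ cj[g] (RL φ) ≤ W) := by
  rw [← RU_rt, ← RL_rt]
  exact h.rot.inv_cases (a := -1) hW (h.Tor_rt.le.trans hT) hy (h.g1 ▸ c1 :) (by rw [neg_neg, ← e, ← h.g3]; rfl)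

theorem inv3 (hW : Odd (Nat.card W)) (hT : Tor φ ≤ N[W]) (hy : y ∈ W) (c1 : Commute y (φ (dg (-1) 1)))
    (e : φ (dg (-1) (-1)) * y * (φ (dg (-1) (-1)))⁻¹ = y⁻¹) :
    y = 1 ∨ (y ∈ cj[g⁻¹] (RU φ) ∧ cj[g⁻¹] (RU φ) ≤ W) ∨ (y ∈ cj[g⁻¹] (RL φ) ∧ cj[g⁻¹] (RL φ) ≤ W) := by
  rw [← RU_du, ← RL_du]
  exact h.dual.inv2 hW (Tor_du.le.trans hT) hy (by simpa [duH_dg] using c1) (by simpa [duH_dg] using e)

omit h [Fintype F] in
theorem t12 : φ (dg (-1) (-1)) * φ (dg 1 (-1)) = φ (dg (-1) 1) := by rw [← map_mul, dg_mul]; simp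

/-- factorisation of an odd-order group normalised by the torus -/
theorem dec (hW : Odd (Nat.card W)) (hT : Tor φ ≤ N[W]) (hy : y ∈ W) : ∃ A a i, φ A ∈ W ∧
    (a = 1 ∨ (a ∈ cj[g] (RU φ) ∧ cj[g] (RU φ) ≤ W) ∨ (a ∈ cj[g] (RL φ) ∧ cj[g] (RL φ) ≤ W)) ∧
    (i = 1 ∨ (i ∈ cj[g⁻¹] (RU φ) ∧ cj[g⁻¹] (RU φ) ≤ W) ∨ (i ∈ cj[g⁻¹] (RL φ) ∧ cj[g⁻¹] (RL φ) ≤ W)) ∧
    y = φ A * a * i := by
  obtain ⟨c, c1, a, a1, i, i1, c2, a2, a3, i2, i3, e⟩ := four hW (t_sq (by simp) (by simp))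
    (t_sq (by simp) (by simp)) T_comm (hT (dg_mem (-1) (-1))) (hT (dg_mem 1 (-1))) hy
  obtain ⟨A, rfl⟩ := h.cent.1 c2
  exact ⟨A, a, i, c1, h.inv2 hW hT a1 a2 a3, h.inv3 hW hT i1 (t12 (φ := φ) ▸ i2) i3, e⟩

theorem le_H (hW : Odd (Nat.card W)) (hT : Tor φ ≤ N[W]) (n1 : ¬ cj[g] (RU φ) ≤ W) (n2 : ¬ cj[g] (RL φ) ≤ W)
    (n3 : ¬ cj[g⁻¹] (RU φ) ≤ W) (n4 : ¬ cj[g⁻¹] (RL φ) ≤ W) : W ≤ φ.range := fun y hy => by
  obtain ⟨A, a, i, -, rfl | ha | ha, rfl | hi | hi, e⟩ := h.dec hW hT hy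
  · exact ⟨A, by simp [e]⟩
  all_goals tauto

/-- an odd-order subgroup normalised by the torus lies in the torus or contains a root group -/
theorem le_T (hW : Odd (Nat.card W)) (hT : Tor φ ≤ N[W]) (n1 : ¬ cj[g] (RU φ) ≤ W) (n2 : ¬ cj[g] (RL φ) ≤ W)
    (n3 : ¬ cj[g⁻¹] (RU φ) ≤ W) (n4 : ¬ cj[g⁻¹] (RL φ) ≤ W) (n5 : ¬ RU φ ≤ W) (n6 : ¬ RL φ ≤ W) :
    W ≤ Tor φ := fun y hy => by
  have := h.rot.le_H hW (h.Tor_rt.le.trans hT) (by rwa [RU_rt, h.gg Tor_RU]) (by rwa [RL_rt, h.gg Tor_RL])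
    (by rwa [RU_rt, inv_conj_conj]) (by rwa [RL_rt, inv_conj_conj]) hy
  exact mem_Tor.2 (h.cent_U.1 ⟨h.cent.2 (h.le_H hW hT n1 n2 n3 n4 hy), h.g1 ▸ h.rot.cent.2 this⟩)

theorem cent_RU (e : x ∈ C[RU φ]) (c1 : Commute x (φ (dg (-1) (-1)))) : ∃ a c, x = φ (dg a a * xu c) := by
  obtain ⟨A, rfl⟩ := h.cent.1 c1
  obtain ⟨e1, e2, -⟩ := gl2_eq_iff.1 (h.commute_iff.1 (e _ (xu_mem 1))).eq
  simp [gl2_mul, xu, add_comm (A.1 0 0)] at e1 e2
  exact ⟨.mk0 _ (gl2B_ne_zero e1).1, A.1 0 1 / A.1 0 0, congrArg φ (by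
    simp [gl2_eq_iff, gl2_mul, dg, xu, e1, e2, mul_div_cancel₀, (gl2B_ne_zero e1).1])⟩

theorem invol_cent (e : x ∈ C[RU φ]) (c1 : Commute x (φ (dg (-1) (-1)))) (e1 : x * x = 1) (e2 : x ≠ 1) :
    x = φ (dg (-1) (-1)) := by
  obtain ⟨a, c, rfl⟩ := h.cent_RU e c1
  refine (h.invol e1 e2).resolve_right fun ⟨B, n⟩ => ?_
  rw [← map_mul, mul_assoc, ← mul_assoc (xu c), ← dg_comm, mul_assoc, xu_add, ← mul_assoc, dg_mul] at e1
  obtain ⟨d, -, r⟩ := h.ker _ e1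
  have := (gl2_eq_iff.1 r).2.1
  simp [gl2_mul, dg, xu, ← two_mul, h.two] at this
  rw [this, xu_zero, mul_one, eq_mul_inv_iff_mul_eq, ← map_mul, dg_comm, map_mul, mul_right_inj] at n
  obtain ⟨a, b, r⟩ := (h.cent_t2 (A := xu 1)).1 (n ▸ Commute.map (dg_comm _ _).symm φ)
  simpa [xu, dg] using (gl2_eq_iff.1 r).2.1

theorem odd_RU : Odd (Nat.card (RU φ)) := h.card_RU ▸ h.odd

omit h [Fintype F] in
theorem t1_RU : φ (dg (-1) (-1)) ∈ C[RU φ] := by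
  rintro _ ⟨c, rfl⟩; exact (Commute.map (dg_comm _ _) φ).symm

omit h [Fintype F] in
theorem t2_RU (e : x ∈ RU φ) : φ (dg 1 (-1)) * x * (φ (dg 1 (-1)))⁻¹ = x⁻¹ := by
  obtain ⟨c, rfl⟩ := mem_RU.1 e
  rw [← map_inv, ← map_mul, ← map_mul, dg_xu, ← map_inv, xu_inv]; simp [div_neg]

theorem not_le_U : ¬ cj[g] (RU φ) ≤ φ.range := fun e => by
  have := h.cent.2 (e (conj_mem_conj.2 (xu_mem 1)))
  rw [← h.g3, commute_conj_iff, h.commute_iff] at this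
  have := (gl2_eq_iff.1 this.eq).2.1
  simp [gl2_mul, xu, dg] at this
  exact h.two (by linear_combination this)

theorem not_le_L : ¬ cj[g] (RL φ) ≤ φ.range := fun e => by
  have := h.cent.2 (e (conj_mem_conj.2 (xl_mem 1)))
  rw [← h.g3, commute_conj_iff, h.commute_iff] at this
  have := (gl2_eq_iff.1 this.eq).2.2.1
  simp [gl2_mul, xl, dg] at this
  exact h.two (by linear_combination -this)

theorem range_du : (φ.comp duH).range = φ.range := by rw [h.dual.range, h.range]; simp [duH_dg]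
theorem not_le_U' : ¬ cj[g⁻¹] (RU φ) ≤ φ.range := by rw [← RU_du, ← h.range_du]; exact h.dual.not_le_U
theorem not_le_L' : ¬ cj[g⁻¹] (RL φ) ≤ φ.range := by rw [← RL_du, ← h.range_du]; exact h.dual.not_le_L

omit h in
theorem prime_p : (ringChar F).Prime := CharP.char_is_prime F _

theorem isP_RU : IsPGroup (ringChar F) (RU φ) := by
  haveI := Fact.mk (prime_p (F := F))
  obtain ⟨n, -, e⟩ := exists_card_eq_char_pow (F := F) (ringChar F)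
  exact IsPGroup.of_card (h.card_RU.trans e)

theorem isP_RL : IsPGroup (ringChar F) (RL φ) := h.refl.isP_RU

variable [Finite G]

theorem syl_RU : IsPiHallOf {ringChar F} (RU φ) φ.range := by
  haveI := Fact.mk (prime_p (F := F))
  have le : RU φ ≤ φ.range := fun _ ⟨c, e⟩ => ⟨_, e⟩
  refine syl_mk prime_p le h.isP_RU fun e => ?_
  have := h.card_H
  rw [← h.range, ← card_mul_relIndex le, h.card_RU, card_gl_two, mul_assoc, mul_assoc] at this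
  rcases prime_p.dvd_mul.1 (Nat.eq_of_mul_eq_mul_left Fintype.card_pos this ▸ e.mul_right _) with d | d
  · exact char_not_dvd_card_sub_one _ (prime_p.dvd_of_dvd_pow d)
  · exact char_not_dvd_card_add_one _ d

/-- the normal 2-complement of the centralizer of a root group -/
theorem exists_Y : ∃ Y : Subgroup G, Odd (Nat.card Y) ∧ Y ≤ C[RU φ] ∧ N[RU φ] ≤ N[Y] ∧
    (∀ x ∈ C[RU φ], Odd (orderOf x) → x ∈ Y) ∧ ∀ n ∈ N[RU φ], ∃ y ∈ Y, ∃ A, n = y * φ A := by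
  have tt : φ (dg (-1) (-1)) * φ (dg (-1) (-1)) = 1 := t_sq (by simp) (by simp)
  obtain ⟨S, hS, le⟩ := exists_syl_ge (p := 2) (M := C[RU φ] ⊓ C1[φ (dg (-1) (-1))])
    (Q := zpowers (φ (dg (-1) (-1)))) Nat.prime_two
    (PG.isPGroup_zpowers_of_pow_eq_one (k := 1) (by rw [pow_one, sq, tt]))
    (zpowers_le.2 ⟨t1_RU, self_mem_cent1 _⟩)
  have n : N[S] ≤ C1[φ (dg (-1) (-1))] := fun n e => by
    have := syl_le hS (conj_mem_of_mem_norm e (le (mem_zpowers _)))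
    exact mem_cent1.2 (mul_inv_eq_iff_eq_mul.1 (h.invol_cent this.1 (mem_cent1.1 this.2) (conj_mul_self n tt)
      (by simpa using h.t1_ne)))
  have hS' := syl_of_norm_le Nat.prime_two hS ((syl_le hS).trans inf_le_left) (inf_le_inf_left _ n)
  have b : C[RU φ] ⊓ N[S] ≤ C[S] := fun x e y e' => by
    obtain ⟨a, c, rfl⟩ := h.cent_RU e.1 (mem_cent1.1 (n e.2))
    obtain ⟨b, d, rfl⟩ := h.cent_RU (syl_le hS e').1 (mem_cent1.1 (syl_le hS e').2)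
    rw [← map_mul, ← map_mul]
    exact congrArg φ (by simp [gl2_eq_iff, gl2_mul, dg, xu, mul_comm]; ring)
  have y := Burnside_hall Nat.prime_two hS' b
  refine ⟨_, Nat.not_even_iff_odd.1 fun e => (isPiSubgroup_single_compl_iff Nat.prime_two).1
    (IsPiHallOf.isPi y) (even_iff_two_dvd.1 e), piCoreOf_le _ _, le_norm_piCoreOf (norm_le_norm_cent _),
    fun x e o => IsPiHallOf.mem_of_normal y (self_le_norm_piCoreOf _ _) e ((piNat_single_compl_iff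
      Nat.prime_two).2 fun d => Nat.not_even_iff_odd.2 o (even_iff_two_dvd.2 d)), fun x e => ?_⟩
  obtain ⟨k, hk, m, hm, rfl⟩ := frattini_arg_exists Nat.prime_two hS' (norm_le_norm_cent _ e)
  obtain ⟨u, hu, v, hv, rfl⟩ := (IsPiHallOf.isComplIn' y hS').exists_mul hk
  obtain ⟨A, r⟩ := h.cent.1 (mem_cent1.1 (mul_mem (syl_le hS hv).2 (n hm)))
  exact ⟨u, hu, A, by rw [r, mul_assoc]⟩

/-- if the root group commutes with no other root group, its normalizer lies in the centralizer -/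
theorem norm_le (n1 : ¬ cj[g] (RU φ) ≤ C[RU φ]) (n2 : ¬ cj[g] (RL φ) ≤ C[RU φ])
    (n4 : ¬ cj[g⁻¹] (RL φ) ≤ C[RU φ]) : N[RU φ] ≤ φ.range := fun x e => by
  obtain ⟨Y, o, le, n, -, d⟩ := h.exists_Y
  obtain ⟨y, hy, A, rfl⟩ := d x e
  exact mul_mem (h.le_H o (Tor_RU.trans n) (fun e => n1 (e.trans le)) (fun e => n2 (e.trans le)) (fun e => n1 (by
    have := conj_mono g (le_cent_symm (e.trans le))
    rwa [conj_centralizer, conj_inv_conj] at this)) (fun e => n4 (e.trans le)) hy) ⟨A, rfl⟩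

theorem comm_of_not_dvd (e : ¬ ringChar F ∣ (C1[φ (dg (-1) (-1))]).index) (p : IsPGroup (ringChar F) W)
    (le : W ≤ C[RU φ]) : W ≤ φ.range :=
  (le_syl_of_le_norm prime_p (syl_trans prime_p h.syl_RU le_top (by rwa [relIndex_top_right, h.range])) p le_top
    (le.trans (cent_le_norm _))).trans (syl_le h.syl_RU)

/-- if the characteristic does not divide the index, the normalizer of the root group is in the centralizer -/
theorem norm_le_of_not_dvd (e : ¬ ringChar F ∣ (C1[φ (dg (-1) (-1))]).index) : N[RU φ] ≤ φ.range :=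
  h.norm_le (fun n => h.not_le_U (h.comm_of_not_dvd e (h.isP_RU.map _) n))
    (fun n => h.not_le_L (h.comm_of_not_dvd e (h.isP_RL.map _) n))
    fun n => h.not_le_L' (h.comm_of_not_dvd e (h.isP_RL.map _) n)

/-- and otherwise the root group commutes with another root group -/
theorem comm_of_dvd (e : ringChar F ∣ (C1[φ (dg (-1) (-1))]).index) :
    cj[g] (RU φ) ≤ C[RU φ] ∨ cj[g] (RL φ) ≤ C[RU φ] ∨ cj[g⁻¹] (RL φ) ≤ C[RU φ] := by
  by_contra! n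
  have := syl_not_dvd prime_p (syl_top_of_norm_le prime_p h.syl_RU (h.norm_le n.1 n.2.1 n.2.2))
  rw [relIndex_top_right] at this
  exact this (e.trans (index_dvd_of_le ((syl_le h.syl_RU).trans h.range.le)))

end Hy

end Cfsg.Agent.B84
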