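import Cfsg.Agent.B84.Loc

/-! # The case where a root group commutes with its rotations -/

set_option autoImplicit false

namespace Cfsg.Agent.B84

open Cfsg.Agent.GT Cfsg.Agent.Cl Cfsg.Agent.TT Subgroup

variable {F G : Type*} [Field F] [Group G] {φ : GL (Fin 2) F →* G} {g x s : G} {W P M : Subgroup G}

theorem syl_idx_mod [Finite G] {p : ℕ} (hp : p.Prime) (h : IsPiHallOf {p} P M) :
    (N[P]).relIndex M ≡ 1 [MOD p] := by
  haveI := Fact.mk hp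
  obtain ⟨Q, rfl⟩ := exists_sylow_of_syl hp h
  rw [relIndex, subgroupOf_normalizer_eq (map_subtype_le _), subgroupOf,
    comap_map_eq_self_of_injective M.subtype_injective]
  exact Q.card_eq_index_normalizer ▸ card_sylow_modEq_one p M

theorem inv_sup (hP : ∀ x ∈ P, s * x * s⁻¹ = x⁻¹) (hM : ∀ x ∈ M, s * x * s⁻¹ = x⁻¹) (c : P ≤ C[M]) :
    ∀ x ∈ P ⊔ M, s * x * s⁻¹ = x⁻¹ := fun x e => by
  obtain ⟨a, ha, b, hb, rfl⟩ := (mem_sup_of_le_norm (c.trans (cent_le_norm _))).1 e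
  rw [← conj_mul, hP a ha, hM b hb, ← c ha b hb, mul_inv_rev]

theorem inv_cj (k : G) (hP : ∀ x ∈ P, s * x * s⁻¹ = x⁻¹) :
    ∀ x ∈ cj[k] P, k * s * k⁻¹ * x * (k * s * k⁻¹)⁻¹ = x⁻¹ := fun x e => by
  obtain ⟨y, hy, rfl⟩ := mem_conj_iff_exists.1 e
  rw [conj_inv, conj_inv, ← hP y hy]; group

theorem three_le_index [Finite G] (h1 : x ∉ M) (h2 : x * x ∉ M) : 3 ≤ M.index := by
  have a := M.index_ne_zero_of_finite
  have b : M.index ≠ 1 := fun e => h1 (by rw [index_eq_one.1 e]; trivial)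
  have c : M.index ≠ 2 := fun e => h2 (mul_self_mem_of_index_two e x)
  omega

theorem t3_RU (e : x ∈ RU φ) : φ (dg (-1) 1) * x * (φ (dg (-1) 1))⁻¹ = x⁻¹ := by
  obtain ⟨c, rfl⟩ := mem_RU.1 e
  rw [← map_inv, ← map_mul, ← map_mul, dg_xu, ← map_inv, xu_inv]; simp

theorem t2_RL (e : x ∈ RL φ) : φ (dg 1 (-1)) * x * (φ (dg 1 (-1)))⁻¹ = x⁻¹ := by
  simpa only [rf_apply, ww_dg] using t3_RU e

theorem t3_RL (e : x ∈ RL φ) : φ (dg (-1) 1) * x * (φ (dg (-1) 1))⁻¹ = x⁻¹ := by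
  simpa only [rf_apply, ww_dg] using Hy.t2_RU e

theorem RU_le : RU φ ≤ φ.range := fun _ ⟨_, e⟩ => ⟨_, e⟩

variable [Fintype F]

namespace Hy

variable (h : Hy φ g)
include h

theorem g1' : g⁻¹ * φ (dg 1 (-1)) * g⁻¹⁻¹ = φ (dg (-1) (-1)) := by rw [← h.g1]; group
theorem t1_23 : ∀ x ∈ cj[g] (RU φ), φ (dg (-1) (-1)) * x * (φ (dg (-1) (-1)))⁻¹ = x⁻¹ :=
  h.g3 ▸ inv_cj g fun _ => t3_RU
theorem t1_32 : ∀ x ∈ cj[g] (RL φ), φ (dg (-1) (-1)) * x * (φ (dg (-1) (-1)))⁻¹ = x⁻¹ :=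
  h.g3 ▸ inv_cj g fun _ => t3_RL
theorem t1_31 : ∀ x ∈ cj[g⁻¹] (RU φ), φ (dg (-1) (-1)) * x * (φ (dg (-1) (-1)))⁻¹ = x⁻¹ :=
  h.g1' ▸ inv_cj g⁻¹ fun _ => t2_RU
theorem t1_13 : ∀ x ∈ cj[g⁻¹] (RL φ), φ (dg (-1) (-1)) * x * (φ (dg (-1) (-1)))⁻¹ = x⁻¹ :=
  h.g1' ▸ inv_cj g⁻¹ fun _ => t2_RL

theorem inf_bot (e : ∀ x ∈ W, φ (dg (-1) (-1)) * x * (φ (dg (-1) (-1)))⁻¹ = x⁻¹) : RU φ ⊓ W = ⊥ :=
  eq_bot_iff.2 fun x m => eq_one_of_odd_card h.odd_RU m.1 (k := 1) (by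
    rw [pow_one, sq, mul_eq_one_iff_eq_inv, ← e x m.2, ← t1_RU x m.1, mul_inv_cancel_right])

theorem wg' (hT : Tor φ ≤ N[W]) : cj[φ ww] (cj[g⁻¹] W) = cj[g] (cj[φ ww] W) := by
  have := h.wg (h.T_cj' hT)
  rw [conj_inv_conj] at this
  rw [this, conj_inv_conj]

theorem not_both2 (hW : Odd (Nat.card W)) (hT : Tor φ ≤ N[W]) (e1 : cj[g] (RU φ) ≤ W) (e2 : cj[g] (RL φ) ≤ W) :
    False := h.rot.not_both hW (h.Tor_rt.le.trans hT) (RU_rt.le.trans e1) (RL_rt.le.trans e2)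

theorem not_both3 (hW : Odd (Nat.card W)) (hT : Tor φ ≤ N[W]) (e1 : cj[g⁻¹] (RU φ) ≤ W)
    (e2 : cj[g⁻¹] (RL φ) ≤ W) : False :=
  h.dual.not_both2 hW (Tor_du.le.trans hT) (by rwa [RU_du]) (by rwa [RL_du])

theorem card_H_T : Nat.card φ.range = Nat.card (Tor φ) * (Fintype.card F * (Fintype.card F + 1)) := by
  have e : (Tor φ).comap φ = dgH.range := by
    rw [Tor, MonoidHom.range_comp, comap_map_eq, sup_eq_left]
    exact fun A e => (h.ker A e).elim fun c r => ⟨(c, c), r.2.symm⟩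
  rw [← card_mul_relIndex (show Tor φ ≤ φ.range from fun _ ⟨_, e⟩ => ⟨_, e⟩), ← index_comap, e]
  congr 1
  have := (dgH (F := F)).range.card_mul_index
  rw [← Nat.card_congr (MonoidHom.ofInjective (f := dgH (F := F)) fun a b e => Prod.ext (dg_inj.1 e).1
    (dg_inj.1 e).2).toEquiv, Nat.card_prod, Nat.card_units, Nat.card_eq_fintype_card, card_gl_two] at this
  have k := Fintype.one_lt_card (α := F)
  exact Nat.eq_of_mul_eq_mul_left (Nat.mul_pos (by omega) (by omega)) (this.trans (by ring))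

omit h in
theorem not_dvd_T : ¬ ringChar F ∣ Nat.card (Tor φ) := fun e => by
  haveI := Fact.mk (prime_p (F := F))
  have := e.trans (card_range_dvd _)
  rw [Nat.card_prod, Nat.card_units, Nat.card_eq_fintype_card, prime_p.dvd_mul, or_self] at this
  exact char_not_dvd_card_sub_one _ this

variable [Finite G]

omit h in
theorem T_inf (p : IsPGroup (ringChar F) W) : W ⊓ Tor φ = ⊥ := IsPiSubgroup.inf_eq_bot (isPi_of_isPGroup prime_p p)
  ((isPiSubgroup_single_compl_iff prime_p).2 not_dvd_T)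

theorem index_mod_p (e : ¬ ringChar F ∣ (C1[φ (dg (-1) (-1))]).index) :
    (C1[φ (dg (-1) (-1))]).index % ringChar F = 1 := by
  have a := syl_idx_mod prime_p h.syl_RU
  have b := syl_idx_mod prime_p (syl_trans prime_p h.syl_RU le_top (by rwa [relIndex_top_right, h.range]))
  rw [relIndex_top_right, ← relIndex_mul_index (h.norm_le_of_not_dvd e), h.range] at b
  rw [h.range] at a
  have := (a.symm.mul_right _).trans b
  rw [one_mul] at this
  exact Eq.trans this (Nat.mod_eq_of_lt prime_p.one_lt)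

theorem case_c (c12 : cj[g] (RU φ) ≤ C[RU φ]) : 3 * Fintype.card F ^ 2 * (Fintype.card F ^ 2 - Fintype.card F + 1) ≤
    (C1[φ (dg (-1) (-1))]).index := by
  haveI := Fact.mk (prime_p (F := F))
  have c23 : cj[g⁻¹] (RU φ) ≤ C[cj[g] (RU φ)] := by
    rw [← h.gg Tor_RU, ← conj_centralizer]; exact conj_mono g c12
  have c31 : RU φ ≤ C[cj[g⁻¹] (RU φ)] := by rw [← conj_centralizer, le_conj_iff, inv_inv]; exact c12
  have c1 : RU φ ≤ C[cj[g] (RU φ) ⊔ cj[g⁻¹] (RU φ)] := by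
    rw [cent_sup]; exact le_inf (le_cent_symm c12) c31
  have cE : Nat.card ↥(RU φ ⊔ (cj[g] (RU φ) ⊔ cj[g⁻¹] (RU φ))) = Fintype.card F ^ 3 := by
    rw [card_sup_of_inf_eq_bot (Or.inl (c1.trans (cent_le_norm _))) (h.inf_bot (inv_sup h.t1_23 h.t1_31
      (le_cent_symm c23))), card_sup_of_inf_eq_bot (Or.inr (c23.trans (cent_le_norm _))) (by
        rw [← h.gg Tor_RU, ← conj_inf, h.inf_bot h.t1_23, conj_bot]), card_conj, card_conj, h.card_RU]
    ring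
  have gE : g ∈ N[RU φ ⊔ (cj[g] (RU φ) ⊔ cj[g⁻¹] (RU φ))] := conj_eq_self_iff.1 (by
    rw [conj_sup, conj_sup, h.gg Tor_RU, conj_inv_conj, ← sup_assoc, sup_comm])
  have wE : cj[φ ww] (RU φ ⊔ (cj[g] (RU φ) ⊔ cj[g⁻¹] (RU φ))) = RL φ ⊔ (cj[g⁻¹] (RL φ) ⊔ cj[g] (RL φ)) := by
    rw [conj_sup, conj_sup, h.wg Tor_RU, h.wg' Tor_RU, w_RU]
  have TE := le_norm_sup Tor_RU (le_norm_sup (h.T_cj Tor_RU) (h.T_cj' Tor_RU))
  have nE := sup_le le_normalizer (le_cent_symm c1 |>.trans (cent_le_norm _))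
  have l1 : RU φ ≤ RU φ ⊔ (cj[g] (RU φ) ⊔ cj[g⁻¹] (RU φ)) := le_sup_left
  have l2 : cj[g] (RU φ) ≤ RU φ ⊔ (cj[g] (RU φ) ⊔ cj[g⁻¹] (RU φ)) := le_sup_of_le_right le_sup_left
  have l3 : cj[g⁻¹] (RU φ) ≤ RU φ ⊔ (cj[g] (RU φ) ⊔ cj[g⁻¹] (RU φ)) := le_sup_of_le_right le_sup_right
  generalize RU φ ⊔ (cj[g] (RU φ) ⊔ cj[g⁻¹] (RU φ)) = E at *
  have oE : Odd (Nat.card E) := cE ▸ h.odd.pow
  obtain ⟨n, -, qn⟩ := exists_card_eq_char_pow (F := F) (ringChar F)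
  have pE : IsPGroup (ringChar F) E := IsPGroup.of_card (by rw [cE, qn, ← pow_mul])
  have TE' : Tor φ ≤ N[cj[φ ww] E] := by rw [← conj_normalizer, ← w_Tor]; exact conj_mono _ TE
  have TV := le_norm_inf TE (le_norm_norm TE')
  have oV : Odd (Nat.card ↥(E ⊓ N[cj[φ ww] E])) := oE.of_dvd_nat (card_dvd_of_le inf_le_left)
  have oW : Odd (Nat.card ↥(E ⊓ N[cj[φ ww] E] ⊔ cj[φ ww] E)) :=
    (oV.mul (by rwa [card_conj])).of_dvd_nat (card_sup_dvd (Or.inl inf_le_right))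
  have TW := le_norm_sup TV TE'
  have V : E ⊓ N[cj[φ ww] E] = ⊥ := eq_bot_iff.2 ((le_inf inf_le_left (h.le_T oV TV
    (fun e => h.not_both2 oW TW (le_sup_of_le_left e) (le_sup_of_le_right (wE ▸ le_sup_of_le_right le_sup_right)))
    (fun e => h.not_both2 oE TE l2 (e.trans inf_le_left))
    (fun e => h.not_both3 oW TW (le_sup_of_le_left e) (le_sup_of_le_right (wE ▸ le_sup_of_le_right le_sup_left)))
    (fun e => h.not_both3 oE TE l3 (e.trans inf_le_left))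
    (fun e => h.not_both oW TW (le_sup_of_le_left e) (le_sup_of_le_right (wE ▸ le_sup_left)))
    fun e => h.not_both oE TE l1 (e.trans inf_le_left))).trans (T_inf pE).le)
  have w0 : ∀ e ∈ E, e * φ ww ∉ N[E] := fun e m r => h.not_both oE TE l1 (by
    rw [← conj_eq_self ((mul_mem_cancel_left (le_normalizer m)).1 r), wE]; exact le_sup_left)
  have i1 : Fintype.card F ^ 3 + 1 ≤ (N[E]).index := by
    rw [← cE, ← Finite.card_option]
    refine Nat.card_le_card_of_injective (fun o : Option E => o.elim ((1 : G) : G ⧸ N[E]) fun e =>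
      (((e : G) * φ ww : G) : G ⧸ N[E])) ?_
    rintro (_ | a) (_ | b) e
    · rfl
    · exact (w0 _ b.2 (by simpa using QuotientGroup.eq.1 e)).elim
    · exact (w0 _ a.2 (by simpa using QuotientGroup.eq.1 e.symm)).elim
    · refine congrArg some (Subtype.ext (inv_mul_eq_one.1 (V.le (mem_inf.2 ⟨mul_mem (inv_mem a.2) b.2, ?_⟩))))
      rw [← conj_normalizer]
      exact mem_conj.2 (by simpa [mul_assoc] using QuotientGroup.eq.1 e)
  have le := sup_le le_normalizer TE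
  have nM := sup_le nE Tor_RU
  have i2 : 3 ≤ (E ⊔ Tor φ).relIndex N[E] := three_le_index (x := ⟨g, gE⟩)
    (fun e => h.not_le_U ((conj_eq_self (nM e)).le.trans RU_le)) fun e => h.not_le_U' (by
      rw [← h.gg Tor_RU, ← mul_conj]; exact (conj_eq_self (nM e)).le.trans RU_le)
  have a := (N[E]).card_mul_index
  rw [← card_mul_relIndex le, card_sup_of_inf_eq_bot (Or.inr TE) (T_inf pE), cE, ← φ.range.card_mul_index,
    h.card_H_T, h.range] at a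
  have tp := card_pos' (Tor φ)
  obtain ⟨r, qr⟩ : ∃ r, Fintype.card F = r + 1 := ⟨_, (Nat.succ_pred_eq_of_pos Fintype.card_pos).symm⟩
  rw [qr] at a i1 ⊢
  rw [show (r + 1) ^ 2 - (r + 1) + 1 = r ^ 2 + r + 1 by rw [show (r + 1) ^ 2 = r ^ 2 + r + (r + 1) by ring]; simp]
  refine Nat.le_of_mul_le_mul_left ?_ (show 0 < Nat.card (Tor φ) * ((r + 1) * (r + 1 + 1)) by positivity)
  rw [← a]
  exact le_trans (le_of_eq (by ring)) (Nat.mul_le_mul (Nat.mul_le_mul_left _ i2) i1)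

end Hy

end Cfsg.Agent.B84
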